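import Groth.Agent.CycLib28.Intersect.ChiHom
import Groth.Agent.EulerLib.FGABridge
import Mathlib

/-!
# Intersection numbers are degrees of iterated first Chern class caps
-/

set_option autoImplicit false
set_option linter.style.haveILetI false
set_option backward.isDefEq.respectTransparency.types false

universe u

open CategoryTheory CategoryTheory.Limits AlgebraicGeometry
open Groth.Agent.Coherent Groth.Agent.EulerLib Groth.Agent.CycLib28.K0

namespace Groth.Agent.CycLib28.Intersect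

variable (k : Type u) [Field k] {X : Scheme.{u}} [X.Over (Spec (CommRingCat.of k))]
  [IsProper (X ↘ Spec (CommRingCat.of k))] [IsLocallyNoetherian X] {δ : X → ℤ}

local notation "cls" => Cyc.toK0CohQuot δ

omit [X.Over (Spec (CommRingCat.of k))] [IsProper (X ↘ Spec (CommRingCat.of k))] [IsLocallyNoetherian X] in
theorem c1CapFun_mem_Zk {L : X.Modules} {m : ℤ} (a : X → ℤ) (ha : ∀ x, δ x ≠ m + 1 → a x = 0)
    (s : (ξ : X) → Cyc.secFibre L ξ) (γ : AlgebraicCycle X ℤ) (hγ : ⇑γ = Cyc.c1CapFun δ L a s) :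
    γ ∈ Cyc.Zk X δ m := fun x hx => by
  rw [hγ]
  refine finsum_eq_zero_of_forall_eq_zero fun ξ => ?_
  by_cases hξ : δ ξ = m + 1
  · rw [Cyc.secDivFun, dif_neg fun h => hx (by omega), mul_zero]
  · rw [ha ξ hξ, zero_mul]

theorem interDeg_eq_deg (hdf : Cyc.IsDimFun X δ)
    (hδ : Cyc.DeltaCompat (X ↘ Spec (CommRingCat.of k)) δ (fun _ => 0)) :
    ∀ (n : ℕ) (L : Fin n → X.Modules) (hL : ∀ i, PicF.IsInvertible (L i))
      (s : (i : Fin n) → (ξ : X) → Cyc.secFibre (L i) ξ), (∀ i ξ, s i ξ ≠ 0) → ∀ (γ : ℕ → X → ℤ),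
      (∀ (i : ℕ) (h : i < n), γ (i + 1) = Cyc.c1CapFun δ (L ⟨i, h⟩) (γ i) (s ⟨i, h⟩)) →
      ∀ z : Cyc.K0CohQuot δ (n : ℤ) ((n : ℤ) - 1), cycleHom hdf n z = γ 0 →
      ∀ α : AlgebraicCycle X ℤ, ⇑α = γ n →
      chiHom k hdf hδ (fun i => InvCl.mk (L i) (hL i)) n ((n : ℤ) - 1) (by omega) z =
        ChowOps.deg (X ↘ Spec (CommRingCat.of k)) δ α := by
  intro n
  induction n with
  | zero =>
    intro L hL s _ γ _ z hz α hα
    exact chiHom_zero hdf hδ _ z α (hz.trans hα.symm)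
  | succ n ih =>
    intro L hL s hs γ hγ z hz α hα
    obtain ⟨F, G, hF, hG, rfl⟩ := exists_sub z
    have hF' : Cyc.CohLe δ ((n : ℤ) + 1) F := CohLe.weaken hF (by push_cast; omega)
    have hG' : Cyc.CohLe δ ((n : ℤ) + 1) G := CohLe.weaken hG (by push_cast; omega)
    obtain ⟨a, ha⟩ := exists_sheafFun_cycle hdf F hF'.1 ((n : ℤ) + 1) hF'.2
    obtain ⟨b, hb⟩ := exists_sheafFun_cycle hdf G hG'.1 ((n : ℤ) + 1) hG'.2
    have hak : ∀ x, δ x ≠ (n : ℤ) + 1 → Cyc.sheafFun δ ((n : ℤ) + 1) F x = 0 := fun x hx => by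
      simp [Cyc.sheafFun, hx]
    have hbk : ∀ x, δ x ≠ (n : ℤ) + 1 → Cyc.sheafFun δ ((n : ℤ) + 1) G x = 0 := fun x hx => by
      simp [Cyc.sheafFun, hx]
    obtain ⟨ga, hga⟩ := exists_c1Cap_cycle hdf (hL 0) a (s 0) (hs 0)
    obtain ⟨gb, hgb⟩ := exists_c1Cap_cycle hdf (hL 0) b (s 0) (hs 0)
    rw [ha] at hga
    rw [hb] at hgb
    have hgak := c1CapFun_mem_Zk _ hak _ ga hga
    have hgbk := c1CapFun_mem_Zk _ hbk _ gb hgb
    obtain ⟨pa, na, ea⟩ := cls_pos_sub_neg hdf ga hgak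
    obtain ⟨pb, nb, eb⟩ := cls_pos_sub_neg hdf gb hgbk
    let z' : Cyc.K0CohQuot δ (n : ℤ) ((n : ℤ) - 1) :=
      (cls n ((n : ℤ) - 1) (Cyc.cycleSheafPos ⇑ga) - cls n ((n : ℤ) - 1) (Cyc.cycleSheafNeg ⇑ga)) -
        (cls n ((n : ℤ) - 1) (Cyc.cycleSheafPos ⇑gb) - cls n ((n : ℤ) - 1) (Cyc.cycleSheafNeg ⇑gb))
    have h0 : γ 0 = Cyc.sheafFun δ ((n : ℤ) + 1) F - Cyc.sheafFun δ ((n : ℤ) + 1) G := by
      rw [← hz, map_sub, cycleHom_cls hdf _ hF, cycleHom_cls hdf _ hG]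
      push_cast; rfl
    have hz' : cycleHom hdf n z' = γ 1 := by
      simp only [z', map_sub] at ea eb ⊢
      rw [ea, eb, hγ 0 n.succ_pos, h0]
      funext x
      rw [Pi.sub_apply, hga, hgb, ← ha, ← hb]
      simp only [Cyc.c1CapFun, Pi.sub_apply, sub_mul]
      exact (finsum_sub_distrib (c1CapFun_support_finite δ (L 0) a (s 0) x)
        (c1CapFun_support_finite δ (L 0) b (s 0) x)).symm
    have key := ih (fun i => L i.succ) (fun i => hL i.succ) (fun i => s i.succ) (fun i => hs i.succ)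
      (fun i => γ (i + 1)) (fun i h => hγ (i + 1) (Nat.succ_lt_succ h)) z' hz' α hα
    set c : Fin n → InvCl X := fun i => InvCl.mk (L i.succ) (hL i.succ)
    have hcons : (fun i => InvCl.mk (L i) (hL i)) = Fin.cons (InvCl.mk (L 0) (hL 0)) c :=
      (Fin.cons_self_tail fun i => InvCl.mk (L i) (hL i)).symm
    have step : ∀ {H : X.Modules} (hH : Cyc.CohLe δ ((n : ℤ) + 1) H) (gh : AlgebraicCycle X ℤ)
        (_ : gh ∈ Cyc.Zk X δ (n : ℤ)) (_ : ⇑gh = Cyc.c1CapFun δ (L 0) (Cyc.sheafFun δ ((n : ℤ) + 1) H) (s 0)),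
        interDeg (fun i => InvCl.mk (L i) (hL i)) (chiCl k H) = chiHom k hdf hδ c n ((n : ℤ) - 1) (by omega)
          (cls n ((n : ℤ) - 1) (Cyc.cycleSheafPos ⇑gh) - cls n ((n : ℤ) - 1) (Cyc.cycleSheafNeg ⇑gh)) := by
      intro H hH gh hghk hgh
      obtain ⟨p, q, -⟩ := cls_pos_sub_neg hdf gh hghk
      have e := congrArg (chiHom k hdf hδ c ((n : ℤ) + 1) ((n : ℤ) - 1) (by omega))
        (cls_twist_sub hdf (hL 0) (n : ℤ) hH (s 0) (hs 0) gh hghk hgh)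
      rw [map_sub, map_sub, show chiHom k hdf hδ c ((n : ℤ) + 1) ((n : ℤ) - 1) _ (cls ((n : ℤ) + 1) ((n : ℤ) - 1) (CohB1.tensorMod H (L 0))) = _ from chiHom_cls hdf hδ c _ (cohLe_twist (hL 0) hH), chiHom_cls hdf hδ c _ hH,
        chiHom_cls hdf hδ c _ (CohLe.weaken p (by omega)), chiHom_cls hdf hδ c _ (CohLe.weaken q (by omega))] at e
      rw [map_sub, chiHom_cls hdf hδ c _ p, chiHom_cls hdf hδ c _ q, ← e, hcons, interDeg_cons,
        ← interDeg_sub]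
      congr 1
      funext x
      rw [Pi.sub_apply, chiCl_mul k H (hL 0)]
    rw [map_sub, chiHom_cls hdf hδ _ _ hF, chiHom_cls hdf hδ _ _ hG, step hF' ga hgak hga, step hG' gb hgbk hgb,
      ← key]
    exact (map_sub _ _ _).symm

end Groth.Agent.CycLib28.Intersect
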