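import Groth.Agent.CurveRR24.Point
import Groth.Agent.CycLib28.PointSheaf
import Groth.Agent.CycLib28.InterSheaf
import Groth.Agent.EulerLib.SupportVanishing
import Groth.Agent.EulerLib.FGABridge
import Groth.Prelude.Def_ChowOps

/-!
# The Euler characteristic of a closed point is its degree
-/

set_option autoImplicit false
set_option linter.style.haveILetI false
set_option backward.isDefEq.respectTransparency.types false

universe u

open CategoryTheory CategoryTheory.Limits AlgebraicGeometry
open Groth.Agent.Coherent Groth.Agent.EulerLib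

namespace Groth.Agent.CycLib28.Intersect

variable (k : Type u) [Field k] {X : Scheme.{u}} [X.Over (Spec (CommRingCat.of k))]

theorem residueDegree_base (x : X) :
    (X ↘ Spec (CommRingCat.of k)).residueDegree x =
      (letI := Curv2.resAlgebra k X x; Module.finrank k (X.residueField x)) := by
  set p := X ↘ Spec (CommRingCat.of k)
  let i : k →+* (Spec (CommRingCat.of k)).residueField (p x) :=
    ((Scheme.ΓSpecIso (CommRingCat.of k)).inv ≫
      (Spec (CommRingCat.of k)).evaluation ⊤ (p x) trivial).hom
  have hi : Function.Surjective i := fun z => by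
    have hcl : IsClosed ({p x} : Set (Spec (CommRingCat.of k))) := by
      have : Subsingleton ↥(Spec (CommRingCat.of k)) := inferInstanceAs (Subsingleton (PrimeSpectrum k))
      rw [Set.eq_univ_of_forall (s := ({p x} : Set ↥(Spec (CommRingCat.of k)))) fun w => Subsingleton.elim _ _]
      exact isClosed_univ
    obtain ⟨a, ha⟩ := CurveRR24.evaluation_surjective_of_isClosed (isAffineOpen_top _) trivial hcl z
    exact ⟨(Scheme.ΓSpecIso (CommRingCat.of k)).hom a, by simp [i, ha]⟩
  have hcomm : (p.residueFieldMap x).hom.comp i = Curv2.resMap k X x := by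
    show ((Scheme.ΓSpecIso (CommRingCat.of k)).inv ≫ (Spec (CommRingCat.of k)).evaluation ⊤ (p x) trivial ≫
      p.residueFieldMap x).hom = _
    rw [Scheme.evaluation_naturality]
    rfl
  let e : k ≃+* (Spec (CommRingCat.of k)).residueField (p x) := RingEquiv.ofBijective i ⟨i.injective, hi⟩
  unfold Scheme.Hom.residueDegree
  letI := Curv2.resAlgebra k X x
  letI := (p.residueFieldMap x).hom.toAlgebra
  refine (Algebra.finrank_eq_of_equiv_equiv e (RingEquiv.refl _) ?_).symm
  ext a
  exact RingHom.congr_fun hcomm a

variable [IsProper (X ↘ Spec (CommRingCat.of k))]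

theorem euler_pointSheaf {x : X} (hx : IsClosed ({x} : Set X)) :
    Curv2.euler k X (InterSheaf.pointSheaf x) = ((X ↘ Spec (CommRingCat.of k)).residueDegree x : ℤ) := by
  haveI := EulerLib.isSeparated_of_proper (X := X) k
  haveI := isNoetherian_of_proper (X := X) k
  have e : InterSheaf.pointSheaf x = ClSub.quotMod (CurveRR24.ptIdeal x hx) := by
    rw [InterSheaf.pointSheaf, show IntMult.ptIdeal x = CurveRR24.ptIdeal x hx from
      congrArg Scheme.IdealSheafData.vanishingIdeal (TopologicalSpace.Closeds.ext hx.closure_eq)]
  have hd : topologicalKrullDim ↥({x} : Set X) ≤ 0 := topologicalKrullDim_zero_of_discreteTopology _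
  rw [e, residueDegree_base, euler_eq_sum k X _ 0 fun q hq =>
      subsingleton_HH_of_support ⟨{x}, hx⟩ _ (CurveRR24.isCoh_quotMod _).1 (CurveRR24.support_ptQuot hx) q
        (hd.trans_lt (by exact_mod_cast hq)),
    Finset.sum_range_one, pow_zero, one_mul, CurveRR24.finrank_HH_zero_ptQuot hx k]

end Groth.Agent.CycLib28.Intersect
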