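import Groth.Agent.CycLib28.K0.Core
import Groth.Agent.CycLib28.InterSheaf
import Mathlib

/-!
# Dimensions of closed sets and the dimension function
-/

set_option autoImplicit false
set_option linter.style.haveILetI false

universe u

open CategoryTheory AlgebraicGeometry TopologicalSpace

namespace Groth.Agent.CycLib28.Intersect

variable {K : Type u} [Field K] {X : Scheme.{u}} (f : X ⟶ Spec (CommRingCat.of K)) {δ : X → ℤ}

include f in
theorem delta_nonneg (hδ : Cyc.DeltaCompat f δ (fun _ => 0)) (x : X) : 0 ≤ δ x := by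
  obtain ⟨n, -, hn⟩ := hδ x
  simp [hn]

omit f in
theorem dim_lt_of_delta_lt (hδ : Cyc.IsDimFun X δ) (h0 : ∀ x, 0 ≤ δ x) {T : Set X} (hT : IsClosed T) {n : ℕ}
    (h : ∀ x ∈ T, δ x < n) : topologicalKrullDim ↥T < (n : WithBot ℕ∞) := by
  have hirr : ∀ A : IrreducibleCloseds ↥T, IsIrreducible (closure (Subtype.val '' (A : Set ↥T))) := fun A =>
    (A.isIrreducible.image _ continuous_subtype_val.continuousOn).closure
  let g : IrreducibleCloseds ↥T → X := fun A => (hirr A).genericPoint
  have hg : ∀ A, closure ({g A} : Set X) = Subtype.val '' (A : Set ↥T) := fun A => by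
    rw [(hirr A).closure_genericPoint isClosed_closure,
      (hT.isClosedEmbedding_subtypeVal.isClosedMap _ A.isClosed).closure_eq]
  have hgT : ∀ A, g A ∈ T := fun A => by
    obtain ⟨z, -, hz⟩ := (hg A).le (subset_closure rfl)
    exact hz ▸ z.2
  have hmono : StrictMono fun A => (⟨(δ (g A)).toNat, by have := h _ (hgT A); have := h0 (g A); omega⟩ : Fin n) :=
    fun A B hAB => by
    have hsp : g B ⤳ g A := specializes_iff_mem_closure.2 ((hg B).ge
      (Set.image_mono hAB.le ((hg A).le (subset_closure rfl))))
    have hne : g B ≠ g A := fun e => hAB.ne (SetLike.coe_injective (Set.image_injective.2 Subtype.val_injective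
      ((hg A).symm.trans ((congrArg (fun z => closure ({z} : Set X)) e.symm).trans (hg B)))))
    have := (hδ _ _ hsp hne).1
    have := h0 (g A)
    show (δ (g A)).toNat < (δ (g B)).toNat
    omega
  refine lt_of_le_of_lt (Order.krullDim_le_of_strictMono _ hmono) ?_
  cases n with
  | zero => rw [Order.krullDim_eq_bot]; exact WithBot.bot_lt_coe _
  | succ n =>
    refine lt_of_le_of_lt (iSup_le fun s : LTSeries (Fin (n + 1)) => ?_) (b := ((n : ℕ) : WithBot ℕ∞))
      (by exact_mod_cast Nat.lt_succ_self n)
    have := Fintype.card_le_of_injective s.toFun s.strictMono.injective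
    simp only [Fintype.card_fin] at this
    exact_mod_cast (by omega : s.length ≤ n)

include f in
theorem delta_le_dim [LocallyOfFiniteType f] (hX : Cyc.IsSetup X δ) (hδ : Cyc.DeltaCompat f δ (fun _ => 0))
    {T : Set X} (hT : IsClosed T) {d : ℕ} (hd : topologicalKrullDim ↥T ≤ (d : WithBot ℕ∞)) {x : X} (hx : x ∈ T) :
    δ x ≤ d := by
  have hsub : closure ({x} : Set X) ⊆ T := hT.closure_subset_iff.2 (Set.singleton_subset_iff.2 hx)
  have hi : Topology.IsInducing (Set.inclusion hsub) :=
    .of_comp (continuous_inclusion hsub) continuous_subtype_val Topology.IsInducing.subtypeVal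
  have h := ((InterSheaf.dim_closure_pt f hX hδ x).ge.trans hi.topologicalKrullDim_le).trans hd
  have h' : (δ x).toNat ≤ d := by exact_mod_cast h
  omega

end Groth.Agent.CycLib28.Intersect
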