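import Groth.Agent.CycLib28.K0.C1Class
import Groth.Agent.CycLib28.Intersect.SupportDim
import Groth.Agent.CycLib28.Intersect.PointChi
import Groth.Agent.EulerLib.DegClass
import Groth.Agent.CycLib28.C1Push
import Groth.Agent.CycLib28.PushStalk
import Mathlib

/-!
# Euler characteristics as a function on classes of cycles
-/

set_option autoImplicit false
set_option linter.style.haveILetI false
set_option backward.isDefEq.respectTransparency.types false

universe u

open CategoryTheory CategoryTheory.Limits AlgebraicGeometry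
open Groth.Agent.Coherent Groth.Agent.EulerLib Groth.Agent.CycLib28.K0

namespace Groth.Agent.CycLib28.Intersect

variable (k : Type u) [Field k] {X : Scheme.{u}} [X.Over (Spec (CommRingCat.of k))]
  [IsProper (X ↘ Spec (CommRingCat.of k))] [IsLocallyNoetherian X] {δ : X → ℤ}

local notation "cls" => Cyc.toK0CohQuot δ

omit [IsLocallyNoetherian X] in
theorem clDeg_chiCl (hdf : Cyc.IsDimFun X δ)
    (hδ : Cyc.DeltaCompat (X ↘ Spec (CommRingCat.of k)) δ (fun _ => 0)) {n : ℕ} {b : ℤ} (hb : b < n)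
    {F : X.Modules} (hF : Cyc.CohLe δ b F) : ClDeg n (chiCl k F) :=
  finDeg_chiCl k hF.1 (dim_lt_of_delta_lt hdf (delta_nonneg _ hδ)
    (isClosed_support _ (locallyFinGen_of_isFT _ hF.1.2))
    fun _ hx => lt_of_le_of_lt (CohLe.support_le hF hx) hb)

/-- `[F] ↦` the intersection degree of `c` on `F`. -/
noncomputable def chiHom (hdf : Cyc.IsDimFun X δ)
    (hδ : Cyc.DeltaCompat (X ↘ Spec (CommRingCat.of k)) δ (fun _ => 0)) {n : ℕ} (c : Fin n → InvCl X)
    (a b : ℤ) (hb : b < n) : Cyc.K0CohQuot δ a b →+ ℤ :=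
  QuotientAddGroup.lift _
    (QuotientAddGroup.lift (KZero.relSub (Cyc.CohLe δ a))
      (FreeAbelianGroup.lift fun F => interDeg c (chiCl k F.1)) (by
      rw [KZero.relSub, AddSubgroup.closure_le]
      rintro x ⟨S, h₁, h₂, h₃, hS, rfl⟩
      rw [SetLike.mem_coe, AddMonoidHom.mem_ker, map_sub, map_sub, FreeAbelianGroup.lift_apply_of,
        FreeAbelianGroup.lift_apply_of, FreeAbelianGroup.lift_apply_of,
        chiCl_additive k S hS h₁.1 h₂.1 h₃.1, interDeg_add_fun]
      abel))
    (by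
      rw [AddSubgroup.closure_le]
      rintro x ⟨F, hF, rfl⟩
      rw [SetLike.mem_coe, AddMonoidHom.mem_ker, KZero.clSub]
      by_cases hFa : Cyc.CohLe δ a F
      · rw [dif_pos hFa]
        exact (FreeAbelianGroup.lift_apply_of _ _).trans (interDeg_eq_zero c (clDeg_chiCl k hdf hδ hb hF))
      · rw [dif_neg hFa]
        exact AddMonoidHom.map_zero _)

variable {k}

theorem chiHom_cls (hdf : Cyc.IsDimFun X δ)
    (hδ : Cyc.DeltaCompat (X ↘ Spec (CommRingCat.of k)) δ (fun _ => 0)) {n : ℕ} (c : Fin n → InvCl X)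
    {a b : ℤ} (hb : b < n) {F : X.Modules} (hF : Cyc.CohLe δ a F) :
    chiHom k hdf hδ c a b hb (cls a b F) = interDeg c (chiCl k F) := by
  rw [cls_eq F hF]
  exact FreeAbelianGroup.lift_apply_of (fun F : Subtype (Cyc.CohLe δ a) => interDeg c (chiCl k F.1)) ⟨F, hF⟩

theorem chiHom_raise (hdf : Cyc.IsDimFun X δ)
    (hδ : Cyc.DeltaCompat (X ↘ Spec (CommRingCat.of k)) δ (fun _ => 0)) {n : ℕ} (c : Fin n → InvCl X)
    {a a' b : ℤ} (h : a ≤ a') (hb : b < n) (z : Cyc.K0CohQuot δ a b) :
    chiHom k hdf hδ c a' b hb (raiseHom δ h b z) = chiHom k hdf hδ c a b hb z := by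
  obtain ⟨F, G, hF, hG, rfl⟩ := exists_sub z
  simp only [map_sub, raiseHom_cls h hF, raiseHom_cls h hG, chiHom_cls hdf hδ c hb hF,
    chiHom_cls hdf hδ c hb hG, chiHom_cls hdf hδ c hb (CohLe.weaken hF h),
    chiHom_cls hdf hδ c hb (CohLe.weaken hG h)]

/-- The base case: Euler characteristics of classes of zero-cycles. -/
theorem chiHom_zero (hdf : Cyc.IsDimFun X δ)
    (hδ : Cyc.DeltaCompat (X ↘ Spec (CommRingCat.of k)) δ (fun _ => 0)) (c : Fin 0 → InvCl X)
    (z : Cyc.K0CohQuot δ 0 (0 - 1)) (α : AlgebraicCycle X ℤ)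
    (hz : cycleHom hdf 0 z = ⇑α) :
    chiHom k hdf hδ c 0 (0 - 1) (by simp) z = ChowOps.deg (X ↘ Spec (CommRingCat.of k)) δ α := by
  classical
  haveI : CompactSpace X := QuasiCompact.compactSpace_of_compactSpace (X ↘ Spec (CommRingCat.of k))
  have h0 := delta_nonneg _ hδ
  have hαk : ∀ x, α x ≠ 0 → δ x = 0 := fun x hx => by
    obtain ⟨F, G, hF, hG, rfl⟩ := exists_sub z
    rw [map_sub, cycleHom_cls hdf 0 hF, cycleHom_cls hdf 0 hG] at hz
    by_contra h
    exact hx (by rw [← hz]; simp [Cyc.sheafFun, h])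
  have hclosed : ∀ x, δ x = 0 → IsClosed ({x} : Set X) := fun x hx => by
    refine isClosed_of_closure_subset fun y hy => ?_
    by_contra hne
    have := (hdf x y (specializes_iff_mem_closure.2 hy) (Ne.symm hne)).1
    have := h0 y
    omega
  have hfin : (Function.support (α : X → ℤ)).Finite := by
    simpa using α.locallyFiniteSupport.finite_inter_support_of_isCompact (W := Set.univ) isCompact_univ
  set s := hfin.toFinset
  have hs : ∀ x, x ∈ s ↔ α x ≠ 0 := fun x => hfin.mem_toFinset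
  have hle : ∀ x ∈ s, Cyc.CohLe δ 0 (InterSheaf.pointSheaf x) := fun x hx =>
    ⟨InterSheaf.isCoh_pointSheaf x, fun y hy =>
      (le_of_specializes hdf (InterSheaf.specializes_of_nontrivial_pointSheaf x y hy)).trans
        (hαk x ((hs x).1 hx)).le⟩
  have hz' : z = ∑ x ∈ s, α x • cls 0 (0 - 1) (InterSheaf.pointSheaf x) := by
    refine cycleHom_injective hdf ?_
    rw [hz, map_sum]
    funext y
    rw [Finset.sum_apply, Finset.sum_congr rfl fun x hx => show cycleHom hdf 0 (α x • cls 0 (0 - 1)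
        (InterSheaf.pointSheaf x)) y = if y = x then α x else 0 by
      rw [map_zsmul, cycleHom_cls hdf 0 (hle x hx),
        InterSheaf.sheafFun_pointSheaf hdf (hαk x ((hs x).1 hx)), Pi.smul_apply]
      simp [Set.indicator_apply]]
    rw [Finset.sum_ite_eq]
    split_ifs with h
    · rfl
    · exact not_not.1 fun hne => h ((hs y).2 hne)
  rw [hz', map_sum, ChowOps.deg, map_apply_finset _ δ (fun _ => (0 : ℤ)) α _ s
    (fun x _ => Subsingleton.elim (α := PrimeSpectrum k) _ _) fun x _ hx => (hs x).2 hx]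
  refine Finset.sum_congr rfl fun x hx => ?_
  rw [map_zsmul, chiHom_cls hdf hδ c _ (hle x hx), interDeg_zero, chiCl_one,
    euler_pointSheaf k (hclosed x (hαk x ((hs x).1 hx))), smul_eq_mul, AlgebraicCycle.mapCoeff,
    if_pos (hαk x ((hs x).1 hx))]

end Groth.Agent.CycLib28.Intersect
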